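import Cfsg.Agent.Lib.Classes.OmegaEightThree.Standard

/-!
Tables for the thirteen classes of subgroups of order three of `PΩ⁺₈(3)` and for their images under triality.
-/

set_option autoImplicit false

namespace CfsgLib.O83

/-- The standard element underlying each representative. -/
def sigOf : Fin 13 → Fin 8 := ![0, 1, 1, 1, 1, 2, 3, 4, 4, 5, 5, 6, 7]

/-- Reflections carrying the standard element to each representative. -/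
def repVecs : Fin 13 → List V8 :=
  ![[],
    [],
    [vec 1 0 0 0 1 0 0 0],
    [vec 1 0 0 0 (-1) 0 0 0],
    [vec 1 0 0 0 1 0 0 0, vec 1 0 0 0 (-1) 0 0 0],
    [],
    [],
    [],
    [vec 1 0 0 0 1 0 0 0],
    [],
    [vec 1 0 0 0 (-1) 0 0 0],
    [],
    []]

/-- The representative reached from a standard element and a class of signs. -/
def stabRep : Fin 8 → Fin 4 → Fin 13 :=
  ![![0, 0, 0, 0],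
    ![1, 3, 2, 4],
    ![5, 5, 5, 5],
    ![6, 6, 6, 6],
    ![7, 7, 8, 8],
    ![9, 10, 9, 10],
    ![11, 11, 11, 11],
    ![12, 12, 12, 12]]

/-- Reflections commuting with a standard element. -/
def stabVecs : Fin 8 → Fin 4 → List V8 :=
  ![![[],
      [vec 1 0 0 0 (-1) 0 0 0],
      [vec 1 0 0 0 1 0 0 0],
      [vec 1 0 0 0 1 0 0 0, vec 1 0 0 0 (-1) 0 0 0]],
    ![[],
      [],
      [],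
      []],
    ![[],
      [vec 0 0 1 0 0 0 (-1) 0],
      [vec 0 0 1 0 0 0 1 0],
      [vec 0 0 1 0 0 0 1 0, vec 0 0 1 0 0 0 (-1) 0]],
    ![[],
      [vec 0 0 1 0 0 0 (-1) 0],
      [vec 0 0 1 0 0 0 1 0],
      [vec 0 0 1 0 0 0 1 0, vec 0 0 1 0 0 0 (-1) 0]],
    ![[],
      [vec 0 1 0 0 0 (-1) 0 0],
      [],
      [vec 0 1 0 0 0 (-1) 0 0]],
    ![[],
      [],
      [vec 0 1 0 0 0 1 0 0],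
      [vec 0 1 0 0 0 1 0 0]],
    ![[],
      [vec 0 1 0 0 0 (-1) 0 0],
      [vec 0 1 0 1 0 (-1) 0 (-1)],
      [vec 0 1 0 1 0 (-1) 0 (-1), vec 0 1 0 0 0 (-1) 0 0]],
    ![[],
      [vec 0 1 0 0 0 (-1) 0 0],
      [vec 0 0 0 1 0 0 0 1],
      [vec 0 0 0 1 0 0 0 1, vec 0 1 0 0 0 (-1) 0 0]]]

/-- The permutation of the classes induced by the first triality. -/
def perm2 : Fin 13 → Fin 13 := ![0, 6, 2, 3, 5, 4, 1, 9, 8, 7, 10, 11, 12]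

/-- The permutation of the classes induced by the second triality. -/
def perm3 : Fin 13 → Fin 13 := ![0, 1, 6, 5, 4, 3, 2, 7, 9, 8, 10, 11, 12]

/-- Reflections carrying companion 2 to its class representative. -/
def conjTwo : Fin 13 → List V8 :=
  ![[vec 0 (-1) (-1) 1 1 (-1) (-1) 0,
      vec 0 (-1) (-1) 1 (-1) 0 (-1) 1,
      vec (-1) 0 (-1) (-1) 0 (-1) 1 0,
      vec 1 (-1) (-1) 1 1 1 (-1) 0,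
      vec 0 (-1) 0 0 0 1 1 1,
      vec 1 0 1 1 (-1) (-1) (-1) 0],
    [vec 0 (-1) 1 (-1) 0 (-1) 1 1,
      vec 0 1 0 0 (-1) 1 0 1,
      vec 0 1 0 1 0 1 (-1) 0,
      vec 1 1 0 (-1) (-1) 0 0 1,
      vec 1 1 0 (-1) 0 0 0 1,
      vec 0 (-1) 1 0 (-1) (-1) 1 0],
    [vec 0 0 (-1) (-1) (-1) 1 1 1,
      vec 1 (-1) 1 1 0 0 0 (-1),
      vec (-1) 0 (-1) 0 1 (-1) 0 (-1),
      vec 0 0 1 (-1) 1 0 0 1,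
      vec (-1) (-1) (-1) 1 1 (-1) 0 (-1),
      vec 1 0 (-1) 0 (-1) (-1) 0 (-1),
      vec 1 0 0 1 1 1 1 0,
      vec (-1) (-1) 1 0 0 0 (-1) (-1)],
    [vec 0 (-1) (-1) 1 1 0 (-1) 1,
      vec 1 (-1) (-1) 1 0 (-1) 0 1,
      vec 0 (-1) 0 1 0 1 1 (-1),
      vec 1 1 0 0 (-1) 0 0 (-1),
      vec (-1) (-1) 0 1 0 0 0 1,
      vec (-1) (-1) (-1) 0 (-1) (-1) 0 0],
    [vec 0 1 0 1 0 1 0 1,
      vec 0 0 (-1) 0 0 1 (-1) (-1),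
      vec 0 1 (-1) (-1) 0 0 0 (-1),
      vec 0 (-1) 0 0 1 1 0 1,
      vec 0 0 1 1 0 (-1) 1 1,
      vec 0 1 0 (-1) (-1) 0 (-1) 1],
    [vec 1 1 1 1 0 0 1 1,
      vec 1 (-1) 1 0 (-1) 0 0 0,
      vec 1 0 1 1 (-1) (-1) 0 0,
      vec 1 1 1 1 (-1) 0 1 1,
      vec (-1) (-1) (-1) 0 (-1) 1 (-1) 0,
      vec 1 1 (-1) 0 (-1) (-1) (-1) (-1),
      vec 1 0 (-1) (-1) 0 (-1) 1 0,
      vec 1 1 (-1) 0 0 1 (-1) 0],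
    [vec 0 (-1) 1 0 1 0 (-1) 0,
      vec (-1) (-1) 1 0 (-1) (-1) 0 (-1),
      vec (-1) (-1) (-1) 0 1 (-1) (-1) 1,
      vec 0 1 1 0 (-1) (-1) (-1) (-1),
      vec (-1) 0 1 0 (-1) (-1) 0 (-1),
      vec 0 0 1 0 0 (-1) 1 1],
    [vec 1 0 0 0 1 1 1 (-1),
      vec 1 0 0 0 (-1) 1 0 0,
      vec (-1) 1 (-1) 1 (-1) 1 0 0,
      vec (-1) 1 0 0 1 (-1) 0 (-1),
      vec 0 0 (-1) 1 0 (-1) 1 (-1),
      vec 1 (-1) 1 (-1) (-1) (-1) 1 0],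
    [vec 1 1 1 0 (-1) 0 (-1) 0,
      vec (-1) (-1) (-1) 0 1 (-1) 1 0,
      vec 1 (-1) 0 (-1) (-1) 1 0 (-1),
      vec 0 1 (-1) (-1) 0 1 0 0,
      vec 1 0 0 1 1 1 (-1) 1,
      vec (-1) 0 1 0 1 1 (-1) (-1),
      vec 0 (-1) (-1) 0 0 0 1 0,
      vec 0 (-1) 0 (-1) 1 1 0 1],
    [vec (-1) 1 0 1 (-1) 0 (-1) 1,
      vec 0 1 (-1) 0 0 1 (-1) 0,
      vec 1 0 (-1) 0 1 1 (-1) 0,
      vec (-1) 1 0 1 1 0 0 0,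
      vec 1 1 1 (-1) 1 (-1) 1 (-1),
      vec (-1) 0 1 (-1) 1 (-1) (-1) (-1)],
    [vec 1 0 (-1) (-1) 1 (-1) 0 (-1),
      vec 0 0 0 (-1) 0 0 0 1,
      vec 0 1 (-1) 0 0 (-1) 0 (-1),
      vec 1 0 1 0 1 (-1) 1 1,
      vec (-1) (-1) 1 1 1 1 0 0,
      vec 1 0 1 1 0 1 1 0,
      vec (-1) 0 0 (-1) 1 1 (-1) 0,
      vec (-1) 0 0 (-1) 0 0 0 1],
    [vec 0 1 (-1) (-1) 0 (-1) (-1) (-1),
      vec 1 (-1) 0 0 1 0 (-1) (-1),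
      vec 1 (-1) 0 1 1 1 (-1) (-1),
      vec 0 (-1) 0 (-1) 0 0 1 (-1),
      vec (-1) 1 0 1 (-1) 0 0 0,
      vec (-1) (-1) 1 (-1) 1 0 (-1) 0,
      vec 1 (-1) (-1) 0 1 0 (-1) 1,
      vec 0 (-1) 1 0 (-1) 1 (-1) 1],
    [vec 0 1 0 (-1) 0 (-1) 1 1,
      vec 0 (-1) 0 0 (-1) (-1) 1 1,
      vec 0 (-1) 0 1 1 1 (-1) (-1),
      vec 0 0 0 (-1) (-1) 1 0 (-1)]]

/-- Reflections carrying companion 3 to its class representative. -/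
def conjThree : Fin 13 → List V8 :=
  ![[vec 1 (-1) (-1) 0 (-1) 0 1 1,
      vec (-1) (-1) 0 (-1) 1 (-1) 0 (-1),
      vec 0 1 (-1) 0 1 (-1) 0 1,
      vec 1 (-1) 0 0 0 (-1) 0 1,
      vec 0 1 (-1) 0 1 0 (-1) (-1),
      vec (-1) 0 1 (-1) 1 (-1) 0 0,
      vec (-1) 0 (-1) 1 0 (-1) 1 0,
      vec 0 0 (-1) 0 1 (-1) 1 0],
    [vec 1 (-1) 0 (-1) (-1) 0 1 0,
      vec 1 0 (-1) 1 (-1) 1 0 (-1),
      vec 0 0 (-1) 1 1 1 0 (-1),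
      vec (-1) 0 1 0 (-1) (-1) 1 0,
      vec (-1) 0 1 (-1) (-1) 0 (-1) 1,
      vec 0 (-1) 1 0 (-1) 0 (-1) 1,
      vec 0 (-1) 0 0 0 1 (-1) (-1),
      vec 1 0 1 0 0 1 1 1],
    [vec 0 1 1 1 (-1) 1 0 1,
      vec (-1) (-1) (-1) 1 (-1) (-1) 0 (-1),
      vec 0 0 1 0 (-1) 0 (-1) (-1),
      vec (-1) (-1) (-1) 0 (-1) 1 (-1) 1,
      vec (-1) (-1) 1 0 1 1 1 (-1),
      vec (-1) 1 0 1 (-1) 0 (-1) 1],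
    [vec 1 (-1) (-1) 0 0 1 0 1,
      vec (-1) (-1) 0 0 0 1 0 (-1),
      vec (-1) 0 (-1) (-1) 1 0 (-1) 1,
      vec 1 (-1) 0 (-1) 0 1 (-1) 0,
      vec 1 0 1 (-1) (-1) 0 (-1) (-1),
      vec 1 1 0 1 0 (-1) 1 0],
    [vec (-1) 0 0 1 (-1) 0 (-1) 1,
      vec (-1) (-1) (-1) 1 (-1) (-1) 1 1,
      vec (-1) 1 0 0 0 (-1) 0 (-1),
      vec 0 1 (-1) 0 0 0 (-1) 0,
      vec 0 1 (-1) 0 (-1) 1 (-1) (-1),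
      vec 1 (-1) (-1) 0 1 1 (-1) 1,
      vec 1 (-1) (-1) 1 0 (-1) (-1) (-1),
      vec 1 1 (-1) 1 (-1) (-1) 1 1],
    [vec 0 0 0 (-1) 1 0 (-1) (-1),
      vec 1 (-1) 1 (-1) (-1) (-1) 1 (-1),
      vec 1 0 (-1) (-1) 0 (-1) (-1) 0,
      vec 1 1 1 1 1 0 0 0,
      vec (-1) 0 0 0 (-1) 0 (-1) 1,
      vec 1 0 (-1) 1 0 0 0 1,
      vec 1 (-1) (-1) 0 0 0 1 1,
      vec 0 (-1) 0 (-1) (-1) 0 1 (-1)],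
    [vec 1 0 0 1 (-1) (-1) (-1) 0,
      vec 1 1 0 (-1) (-1) 1 0 (-1),
      vec 0 (-1) (-1) 1 1 0 0 1,
      vec 0 (-1) 1 1 (-1) 0 (-1) (-1),
      vec 1 (-1) 1 1 0 (-1) 1 (-1),
      vec (-1) (-1) 0 (-1) 0 (-1) 1 (-1)],
    [vec 1 0 (-1) 0 0 0 1 (-1),
      vec 0 0 (-1) (-1) (-1) 0 1 1,
      vec (-1) 0 (-1) 1 (-1) 1 1 (-1),
      vec 0 1 (-1) 1 1 1 (-1) (-1),
      vec 0 1 (-1) (-1) 0 1 0 0,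
      vec 0 1 1 1 0 0 (-1) 0,
      vec 1 1 1 0 1 1 (-1) (-1),
      vec (-1) (-1) 1 1 (-1) 0 0 1],
    [vec 0 (-1) 1 0 (-1) 0 (-1) (-1),
      vec 1 1 (-1) 0 (-1) 0 1 0,
      vec 1 1 1 1 (-1) (-1) (-1) (-1),
      vec 1 (-1) 0 0 0 1 0 1,
      vec 1 (-1) (-1) 0 1 (-1) 0 0,
      vec (-1) 1 (-1) (-1) 1 (-1) 0 0],
    [vec (-1) 1 (-1) (-1) (-1) 0 0 (-1),
      vec 0 1 1 (-1) (-1) (-1) 0 1,
      vec (-1) 0 (-1) 0 0 (-1) 1 0,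
      vec (-1) 0 0 (-1) 0 0 1 (-1),
      vec 0 1 (-1) 1 (-1) (-1) 1 0,
      vec 0 0 0 1 (-1) (-1) (-1) 1,
      vec 1 (-1) (-1) 0 (-1) (-1) 1 (-1),
      vec 1 1 0 (-1) 1 1 0 0],
    [vec (-1) (-1) 0 1 0 1 0 (-1),
      vec (-1) 1 1 0 0 0 1 0,
      vec 1 0 (-1) 0 0 0 1 0,
      vec (-1) (-1) (-1) 1 0 1 0 (-1),
      vec 1 0 (-1) 0 0 0 (-1) 0,
      vec 0 (-1) 1 0 0 0 (-1) (-1)],
    [vec 1 1 1 (-1) 1 1 0 0,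
      vec 0 (-1) 1 (-1) 0 1 0 1,
      vec 1 0 (-1) 0 0 0 (-1) 1,
      vec 0 (-1) 0 0 1 (-1) 1 1,
      vec 0 0 0 (-1) 0 1 0 (-1),
      vec 1 0 (-1) 0 1 1 (-1) 0,
      vec 0 (-1) 1 1 1 0 1 1,
      vec 0 1 0 1 0 1 (-1) 1],
    [vec (-1) (-1) (-1) 0 1 0 1 0,
      vec 1 0 1 (-1) (-1) 1 1 (-1),
      vec 0 0 0 (-1) 1 (-1) (-1) 1,
      vec 1 0 1 0 (-1) 0 (-1) 0,
      vec (-1) (-1) 0 (-1) 0 1 1 1,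
      vec (-1) 0 0 0 1 1 0 1]]

/-- The images of the coordinate vectors under the representatives. -/
def colS : Fin 13 → I8 → V8 :=
  ![Sum.elim ![vec 1 0 0 0 0 0 0 0,
      vec 0 1 0 0 0 0 0 0,
      vec 0 0 1 0 0 0 0 1,
      vec 0 0 0 1 0 0 (-1) 0]
      ![vec 0 0 0 0 1 0 0 0,
      vec 0 0 0 0 0 1 0 0,
      vec 0 0 0 0 0 0 1 0,
      vec 0 0 0 0 0 0 0 1],
    Sum.elim ![vec 1 0 0 0 0 1 0 0,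
      vec 0 1 0 0 (-1) 0 0 0,
      vec 0 0 1 0 0 0 0 1,
      vec 0 0 0 1 0 0 (-1) 0]
      ![vec 0 0 0 0 1 0 0 0,
      vec 0 0 0 0 0 1 0 0,
      vec 0 0 0 0 0 0 1 0,
      vec 0 0 0 0 0 0 0 1],
    Sum.elim ![vec 1 0 0 0 0 0 0 0,
      vec 1 1 0 0 0 0 0 0,
      vec 0 0 1 0 0 0 0 1,
      vec 0 0 0 1 0 0 (-1) 0]
      ![vec 0 0 0 0 1 (-1) 0 0,
      vec 0 0 0 0 0 1 0 0,
      vec 0 0 0 0 0 0 1 0,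
      vec 0 0 0 0 0 0 0 1],
    Sum.elim ![vec 1 0 0 0 0 0 0 0,
      vec (-1) 1 0 0 0 0 0 0,
      vec 0 0 1 0 0 0 0 1,
      vec 0 0 0 1 0 0 (-1) 0]
      ![vec 0 0 0 0 1 1 0 0,
      vec 0 0 0 0 0 1 0 0,
      vec 0 0 0 0 0 0 1 0,
      vec 0 0 0 0 0 0 0 1],
    Sum.elim ![vec 1 0 0 0 0 (-1) 0 0,
      vec 0 1 0 0 1 0 0 0,
      vec 0 0 1 0 0 0 0 1,
      vec 0 0 0 1 0 0 (-1) 0]
      ![vec 0 0 0 0 1 0 0 0,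
      vec 0 0 0 0 0 1 0 0,
      vec 0 0 0 0 0 0 1 0,
      vec 0 0 0 0 0 0 0 1],
    Sum.elim ![vec 1 1 0 0 (-1) 1 0 0,
      vec 0 1 0 0 (-1) 0 0 0,
      vec 0 0 1 0 0 0 0 0,
      vec 0 0 0 1 0 0 0 0]
      ![vec 0 0 0 0 1 0 0 0,
      vec 0 0 0 0 (-1) 1 0 0,
      vec 0 0 0 0 0 0 1 0,
      vec 0 0 0 0 0 0 0 1],
    Sum.elim ![vec 1 1 0 0 1 (-1) 0 0,
      vec 0 1 0 0 1 0 0 0,
      vec 0 0 1 0 0 0 0 0,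
      vec 0 0 0 1 0 0 0 0]
      ![vec 0 0 0 0 1 0 0 0,
      vec 0 0 0 0 (-1) 1 0 0,
      vec 0 0 0 0 0 0 1 0,
      vec 0 0 0 0 0 0 0 1],
    Sum.elim ![vec 1 1 0 0 (-1) 1 0 0,
      vec 0 1 0 0 (-1) 0 0 0,
      vec 0 0 1 0 0 0 0 1,
      vec 0 0 0 1 0 0 (-1) 0]
      ![vec 0 0 0 0 1 0 0 0,
      vec 0 0 0 0 (-1) 1 0 0,
      vec 0 0 0 0 0 0 1 0,
      vec 0 0 0 0 0 0 0 1],
    Sum.elim ![vec 1 0 0 0 0 0 0 0,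
      vec 1 1 0 0 0 0 0 0,
      vec 0 0 1 0 0 0 0 1,
      vec 0 0 0 1 0 0 (-1) 0]
      ![vec (-1) (-1) 0 0 1 (-1) 0 0,
      vec 1 0 0 0 0 1 0 0,
      vec 0 0 0 0 0 0 1 0,
      vec 0 0 0 0 0 0 0 1],
    Sum.elim ![vec 1 1 0 0 1 (-1) 0 0,
      vec 0 1 0 0 1 0 0 0,
      vec 0 0 1 0 0 0 0 1,
      vec 0 0 0 1 0 0 (-1) 0]
      ![vec 0 0 0 0 1 0 0 0,
      vec 0 0 0 0 (-1) 1 0 0,
      vec 0 0 0 0 0 0 1 0,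
      vec 0 0 0 0 0 0 0 1],
    Sum.elim ![vec 1 0 0 0 0 0 0 0,
      vec 1 1 0 0 0 0 0 0,
      vec 0 0 1 0 0 0 0 1,
      vec 0 0 0 1 0 0 (-1) 0]
      ![vec 1 1 0 0 1 (-1) 0 0,
      vec (-1) 0 0 0 0 1 0 0,
      vec 0 0 0 0 0 0 1 0,
      vec 0 0 0 0 0 0 0 1],
    Sum.elim ![vec 1 1 0 0 (-1) 1 0 0,
      vec 0 1 0 0 (-1) 0 0 0,
      vec 0 0 1 1 0 0 (-1) 1,
      vec 0 0 0 1 0 0 (-1) 0]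
      ![vec 0 0 0 0 1 0 0 0,
      vec 0 0 0 0 (-1) 1 0 0,
      vec 0 0 0 0 0 0 1 0,
      vec 0 0 0 0 0 0 (-1) 1],
    Sum.elim ![vec 1 1 0 0 (-1) 1 0 0,
      vec 0 1 0 0 (-1) 0 0 0,
      vec 0 0 1 1 0 0 1 (-1),
      vec 0 0 0 1 0 0 1 0]
      ![vec 0 0 0 0 1 0 0 0,
      vec 0 0 0 0 (-1) 1 0 0,
      vec 0 0 0 0 0 0 1 0,
      vec 0 0 0 0 0 0 (-1) 1]]

/-- The images of the coordinate vectors under the second companions. -/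
def colTwo : Fin 13 → I8 → V8 :=
  ![Sum.elim ![vec 1 (-1) 0 0 0 0 0 0,
      vec 0 1 0 0 0 0 0 0,
      vec 0 0 1 0 0 0 0 0,
      vec 0 0 0 1 0 0 0 0]
      ![vec 0 0 0 0 1 0 0 0,
      vec 0 0 0 0 1 1 0 0,
      vec 0 0 0 0 0 0 1 0,
      vec 0 0 0 0 0 0 0 1],
    Sum.elim ![vec 1 (-1) 0 0 1 1 0 0,
      vec 0 1 0 0 (-1) 0 0 0,
      vec 0 0 1 0 0 0 0 0,
      vec 0 0 0 1 0 0 0 0]
      ![vec 0 0 0 0 1 0 0 0,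
      vec 0 0 0 0 1 1 0 0,
      vec 0 0 0 0 0 0 1 0,
      vec 0 0 0 0 0 0 0 1],
    Sum.elim ![vec 1 (-1) 0 0 0 0 0 0,
      vec 0 1 0 0 0 0 0 0,
      vec 0 0 1 0 0 0 0 0,
      vec 0 0 0 1 0 0 0 0]
      ![vec 0 0 0 0 1 0 0 0,
      vec 0 0 0 0 1 1 0 0,
      vec 0 0 0 1 0 0 1 0,
      vec 0 0 (-1) 0 0 0 0 1],
    Sum.elim ![vec 1 (-1) 0 0 0 0 0 0,
      vec 0 1 0 0 0 0 0 0,
      vec 0 0 1 0 0 0 0 0,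
      vec 0 0 0 1 0 0 0 0]
      ![vec 0 0 0 0 1 0 0 0,
      vec 0 0 0 0 1 1 0 0,
      vec 0 0 0 (-1) 0 0 1 0,
      vec 0 0 1 0 0 0 0 1],
    Sum.elim ![vec 1 (-1) 0 0 (-1) (-1) 0 0,
      vec 0 1 0 0 1 0 0 0,
      vec 0 0 1 0 0 0 0 0,
      vec 0 0 0 1 0 0 0 0]
      ![vec 0 0 0 0 1 0 0 0,
      vec 0 0 0 0 1 1 0 0,
      vec 0 0 0 0 0 0 1 0,
      vec 0 0 0 0 0 0 0 1],
    Sum.elim ![vec 1 0 0 0 0 1 0 0,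
      vec 0 1 0 0 (-1) 0 0 0,
      vec 0 0 1 0 0 0 0 (-1),
      vec 0 0 0 1 0 0 1 0]
      ![vec 0 0 0 0 1 0 0 0,
      vec 0 0 0 0 0 1 0 0,
      vec 0 0 0 0 0 0 1 0,
      vec 0 0 0 0 0 0 0 1],
    Sum.elim ![vec 1 0 0 0 0 (-1) 0 0,
      vec 0 1 0 0 1 0 0 0,
      vec 0 0 1 0 0 0 0 (-1),
      vec 0 0 0 1 0 0 1 0]
      ![vec 0 0 0 0 1 0 0 0,
      vec 0 0 0 0 0 1 0 0,
      vec 0 0 0 0 0 0 1 0,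
      vec 0 0 0 0 0 0 0 1],
    Sum.elim ![vec 1 (-1) 0 0 1 1 0 0,
      vec 0 1 0 0 (-1) 0 0 0,
      vec 0 0 1 0 0 0 0 (-1),
      vec 0 0 0 1 0 0 1 0]
      ![vec 0 0 0 0 1 0 0 0,
      vec 0 0 0 0 1 1 0 0,
      vec 0 0 0 0 0 0 1 0,
      vec 0 0 0 0 0 0 0 1],
    Sum.elim ![vec 1 (-1) 0 0 0 0 0 0,
      vec 0 1 0 0 0 0 0 0,
      vec 0 0 1 0 0 0 0 0,
      vec 0 0 0 1 0 0 0 0]
      ![vec 0 (-1) 0 0 1 0 0 0,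
      vec 1 (-1) 0 0 1 1 0 0,
      vec 0 0 0 1 0 0 1 0,
      vec 0 0 (-1) 0 0 0 0 1],
    Sum.elim ![vec 1 (-1) 0 0 (-1) (-1) 0 0,
      vec 0 1 0 0 1 0 0 0,
      vec 0 0 1 0 0 0 0 (-1),
      vec 0 0 0 1 0 0 1 0]
      ![vec 0 0 0 0 1 0 0 0,
      vec 0 0 0 0 1 1 0 0,
      vec 0 0 0 0 0 0 1 0,
      vec 0 0 0 0 0 0 0 1],
    Sum.elim ![vec 1 (-1) 0 0 0 0 0 0,
      vec 0 1 0 0 0 0 0 0,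
      vec 0 0 1 0 0 0 0 0,
      vec 0 0 0 1 0 0 0 0]
      ![vec 0 1 0 0 1 0 0 0,
      vec (-1) 1 0 0 1 1 0 0,
      vec 0 0 0 1 0 0 1 0,
      vec 0 0 (-1) 0 0 0 0 1],
    Sum.elim ![vec 1 (-1) 0 0 1 1 0 0,
      vec 0 1 0 0 (-1) 0 0 0,
      vec 0 0 1 1 0 0 1 (-1),
      vec 0 0 0 1 0 0 1 0]
      ![vec 0 0 0 0 1 0 0 0,
      vec 0 0 0 0 1 1 0 0,
      vec 0 0 0 0 0 0 1 0,
      vec 0 0 0 0 0 0 (-1) 1],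
    Sum.elim ![vec 1 1 0 0 (-1) 1 0 0,
      vec 0 1 0 0 (-1) 0 0 0,
      vec 0 0 1 1 0 0 1 (-1),
      vec 0 0 0 1 0 0 1 0]
      ![vec 0 0 0 0 1 0 0 0,
      vec 0 0 0 0 (-1) 1 0 0,
      vec 0 0 0 0 0 0 1 0,
      vec 0 0 0 0 0 0 (-1) 1]]

/-- The images of the coordinate vectors under the third companions. -/
def colThree : Fin 13 → I8 → V8 :=
  ![Sum.elim ![vec 1 0 0 0 0 0 0 0,
      vec 0 1 0 0 0 0 0 0,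
      vec 0 0 1 0 0 0 0 0,
      vec 0 0 0 1 0 0 0 0]
      ![vec 0 1 0 0 1 0 0 0,
      vec (-1) 0 0 0 0 1 0 0,
      vec 0 0 0 0 0 0 1 0,
      vec 0 0 0 0 0 0 0 1],
    Sum.elim ![vec 1 0 0 0 0 0 0 0,
      vec 0 1 0 0 0 0 0 0,
      vec 0 0 1 0 0 0 0 0,
      vec 0 0 0 1 0 0 0 0]
      ![vec 0 1 0 0 1 0 0 0,
      vec (-1) 0 0 0 0 1 0 0,
      vec 0 0 0 1 0 0 1 0,
      vec 0 0 (-1) 0 0 0 0 1],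
    Sum.elim ![vec 1 0 0 0 0 0 0 0,
      vec 1 1 0 0 0 0 0 0,
      vec 0 0 1 0 0 0 0 0,
      vec 0 0 0 1 0 0 0 0]
      ![vec 1 1 0 0 1 (-1) 0 0,
      vec (-1) 0 0 0 0 1 0 0,
      vec 0 0 0 0 0 0 1 0,
      vec 0 0 0 0 0 0 0 1],
    Sum.elim ![vec 1 0 0 0 0 0 0 0,
      vec (-1) 1 0 0 0 0 0 0,
      vec 0 0 1 0 0 0 0 0,
      vec 0 0 0 1 0 0 0 0]
      ![vec (-1) 1 0 0 1 1 0 0,
      vec (-1) 0 0 0 0 1 0 0,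
      vec 0 0 0 0 0 0 1 0,
      vec 0 0 0 0 0 0 0 1],
    Sum.elim ![vec 1 0 0 0 0 0 0 0,
      vec 0 1 0 0 0 0 0 0,
      vec 0 0 1 0 0 0 0 0,
      vec 0 0 0 1 0 0 0 0]
      ![vec 0 1 0 0 1 0 0 0,
      vec (-1) 0 0 0 0 1 0 0,
      vec 0 0 0 (-1) 0 0 1 0,
      vec 0 0 1 0 0 0 0 1],
    Sum.elim ![vec 1 1 0 0 0 0 0 0,
      vec 0 1 0 0 0 0 0 0,
      vec 0 0 1 0 0 0 0 0,
      vec 0 0 0 1 0 0 0 0]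
      ![vec 0 0 0 0 1 0 0 0,
      vec 0 0 0 0 (-1) 1 0 0,
      vec 0 0 0 1 0 0 1 0,
      vec 0 0 (-1) 0 0 0 0 1],
    Sum.elim ![vec 1 1 0 0 0 0 0 0,
      vec 0 1 0 0 0 0 0 0,
      vec 0 0 1 0 0 0 0 0,
      vec 0 0 0 1 0 0 0 0]
      ![vec 0 0 0 0 1 0 0 0,
      vec 0 0 0 0 (-1) 1 0 0,
      vec 0 0 0 (-1) 0 0 1 0,
      vec 0 0 1 0 0 0 0 1],
    Sum.elim ![vec 1 1 0 0 0 0 0 0,
      vec 0 1 0 0 0 0 0 0,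
      vec 0 0 1 0 0 0 0 0,
      vec 0 0 0 1 0 0 0 0]
      ![vec 0 1 0 0 1 0 0 0,
      vec (-1) (-1) 0 0 (-1) 1 0 0,
      vec 0 0 0 1 0 0 1 0,
      vec 0 0 (-1) 0 0 0 0 1],
    Sum.elim ![vec 1 0 0 0 0 0 0 0,
      vec 1 1 0 0 0 0 0 0,
      vec 0 0 1 0 0 0 0 (-1),
      vec 0 0 0 1 0 0 1 0]
      ![vec 1 1 0 0 1 (-1) 0 0,
      vec (-1) 0 0 0 0 1 0 0,
      vec 0 0 0 0 0 0 1 0,
      vec 0 0 0 0 0 0 0 1],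
    Sum.elim ![vec 1 1 0 0 0 0 0 0,
      vec 0 1 0 0 0 0 0 0,
      vec 0 0 1 0 0 0 0 0,
      vec 0 0 0 1 0 0 0 0]
      ![vec 0 1 0 0 1 0 0 0,
      vec (-1) (-1) 0 0 (-1) 1 0 0,
      vec 0 0 0 (-1) 0 0 1 0,
      vec 0 0 1 0 0 0 0 1],
    Sum.elim ![vec 1 0 0 0 0 0 0 0,
      vec 1 1 0 0 0 0 0 0,
      vec 0 0 1 0 0 0 0 1,
      vec 0 0 0 1 0 0 (-1) 0]
      ![vec 1 1 0 0 1 (-1) 0 0,
      vec (-1) 0 0 0 0 1 0 0,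
      vec 0 0 0 0 0 0 1 0,
      vec 0 0 0 0 0 0 0 1],
    Sum.elim ![vec 1 1 0 0 0 0 0 0,
      vec 0 1 0 0 0 0 0 0,
      vec 0 0 1 1 0 0 0 0,
      vec 0 0 0 1 0 0 0 0]
      ![vec 0 1 0 0 1 0 0 0,
      vec (-1) (-1) 0 0 (-1) 1 0 0,
      vec 0 0 0 1 0 0 1 0,
      vec 0 0 (-1) (-1) 0 0 (-1) 1],
    Sum.elim ![vec 1 1 0 0 0 0 0 0,
      vec 0 1 0 0 0 0 0 0,
      vec 0 0 1 1 0 0 0 0,
      vec 0 0 0 1 0 0 0 0]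
      ![vec 0 (-1) 0 0 1 0 0 0,
      vec 1 1 0 0 (-1) 1 0 0,
      vec 0 0 0 1 0 0 1 0,
      vec 0 0 (-1) (-1) 0 0 (-1) 1]]

end CfsgLib.O83
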